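import Cfsg.Agent.H749.TwoMinus

/-!
# S4933, the double frame (helper18)

`Dbl F F' F₂ j j₂ W₀ Z₀ W₂ Z' b k` : `W₀`, `Z₀` totally singular of dimensions `b`, `k`, `W₀ ⊕ Z₀` maximal totally
singular, `j X'` a complement of `W₀` in `W₀ᗮ`, `j₂ X₂` a complement of `Z₀` in `Z₀ᗮ`, `W₂`, `Z'` the preimages.
`spF_dbl`, `plusF_dbl`, `oddF_dbl`, `minusF_dbl`.
`Dbl.inf_le`, `Dbl.card_inf` : `Q ⊓ M ≤ T`, `|Q ⊓ T| = |M ⊓ T|` for `Q`, `M`, `T` = stabilisers of `W₀`, `Z₀`, `W₀ ⊔ Z₀`.
-/

set_option autoImplicit false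

open Cfsg

namespace Cfsg.Agent.H18.HT

open Module Cfsg.Agent.H53.HC Cfsg.Agent.H477.HC Cfsg.Agent.H749.Two

universe u v w w'

section

variable {K : Type u} [Field K] {V : Type v} [AddCommGroup V] [Module K V] {X' : Type w} [AddCommGroup X']
  [Module K X'] {X₂ : Type w'} [AddCommGroup X₂] [Module K X₂]

/-- the double frame -/
structure Dbl (F : CForm K V) (F' : CForm K X') (F₂ : CForm K X₂) (j : X' →ₗ[K] V) (j₂ : X₂ →ₗ[K] V)
    (W₀ Z₀ : Submodule K V) (W₂ : Submodule K X₂) (Z' : Submodule K X') (b k : ℕ) : Prop where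
  cmp : Cmp F F' j W₀
  W₀_mem : W₀ ∈ F.Om b
  cmp₂ : Cmp F F₂ j₂ Z₀
  Z₀_mem : Z₀ ∈ F.Om k
  W₂_map : W₂.map j₂ = W₀
  Z'_map : Z'.map j = Z₀
  W₂_mem : W₂ ∈ F₂.Om b
  Z'_mem : Z' ∈ F'.Om k
  le : ∀ U : Submodule K V, F.TS U → finrank K U ≤ b + k
  le₂ : ∀ U : Submodule K X₂, F₂.TS U → finrank K U ≤ b
  le' : ∀ U : Submodule K X', F'.TS U → finrank K U ≤ k

variable {F : CForm K V} {F' : CForm K X'} {F₂ : CForm K X₂} {j : X' →ₗ[K] V} {j₂ : X₂ →ₗ[K] V}
  {W₀ Z₀ : Submodule K V} {W₂ : Submodule K X₂} {Z' : Submodule K X'} {b k : ℕ}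

theorem Dbl.inf_eq_bot (h : Dbl F F' F₂ j j₂ W₀ Z₀ W₂ Z' b k) [FiniteDimensional K X'] : W₀ ⊓ Z₀ = ⊥ := by
  obtain ⟨r, -, hr, hr0⟩ := h.cmp.exists_proj
  rw [Submodule.eq_bot_iff]
  rintro x ⟨hx, hx'⟩
  rw [← h.Z'_map] at hx'
  obtain ⟨z, -, rfl⟩ := hx'
  have h1 := hr0 _ hx
  rw [hr] at h1
  rw [h1, map_zero]

theorem Dbl.le_perp (h : Dbl F F' F₂ j j₂ W₀ Z₀ W₂ Z' b k) : Z₀ ≤ F.perp W₀ := by
  intro z hz
  rw [← h.Z'_map] at hz
  obtain ⟨x, -, rfl⟩ := hz
  exact h.cmp.j1 x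

theorem Dbl.le_perp' (h : Dbl F F' F₂ j j₂ W₀ Z₀ W₂ Z' b k) : W₀ ≤ F.perp Z₀ := fun _ hw _ hz =>
  F.B_eq_zero (h.le_perp hz _ hw)

theorem Dbl.ts (h : Dbl F F' F₂ j j₂ W₀ Z₀ W₂ Z' b k) : F.TS (W₀ ⊔ Z₀) :=
  F.TS_sup h.W₀_mem.1 h.Z₀_mem.1 h.le_perp'

theorem Dbl.finrank_sup (h : Dbl F F' F₂ j j₂ W₀ Z₀ W₂ Z' b k) [FiniteDimensional K V] [FiniteDimensional K X'] :
    finrank K ↥(W₀ ⊔ Z₀) = b + k := by
  have h1 := Submodule.finrank_sup_add_finrank_inf_eq W₀ Z₀
  rw [h.inf_eq_bot, finrank_bot, add_zero, h.W₀_mem.2, h.Z₀_mem.2] at h1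
  exact h1

theorem Dbl.sup_mem (h : Dbl F F' F₂ j j₂ W₀ Z₀ W₂ Z' b k) [FiniteDimensional K V] [FiniteDimensional K X'] :
    W₀ ⊔ Z₀ ∈ F.Om (b + k) := ⟨h.ts, h.finrank_sup⟩

/-- maximality of a totally singular subspace of the right dimension -/
theorem eq_of_le_of_om {V : Type*} [AddCommGroup V] [Module K V] [FiniteDimensional K V] {F : CForm K V} {n : ℕ}
    (hle : ∀ U : Submodule K V, F.TS U → finrank K U ≤ n) {L U : Submodule K V} (hL : L ∈ F.Om n) (hU : F.TS U)
    (h : L ≤ U) : U = L :=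
  (Submodule.eq_of_le_of_finrank_le h (by rw [hL.2]; exact hle U hU)).symm

theorem Dbl.max (h : Dbl F F' F₂ j j₂ W₀ Z₀ W₂ Z' b k) [FiniteDimensional K V] [FiniteDimensional K X']
    (U : Submodule K V) (hU : F.TS U) (hl : W₀ ⊔ Z₀ ≤ U) : U = W₀ ⊔ Z₀ :=
  eq_of_le_of_om h.le h.sup_mem hU hl

theorem Dbl.max₂ (h : Dbl F F' F₂ j j₂ W₀ Z₀ W₂ Z' b k) [FiniteDimensional K X₂]
    (U : Submodule K X₂) (hU : F₂.TS U) (hl : W₂ ≤ U) : U = W₂ :=
  eq_of_le_of_om h.le₂ h.W₂_mem hU hl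

theorem Dbl.max' (h : Dbl F F' F₂ j j₂ W₀ Z₀ W₂ Z' b k) [FiniteDimensional K X']
    (U : Submodule K X') (hU : F'.TS U) (hl : Z' ≤ U) : U = Z' :=
  eq_of_le_of_om h.le' h.Z'_mem hU hl

/-! ### the stabilisers -/

theorem Dbl.inf_le (_h : Dbl F F' F₂ j j₂ W₀ Z₀ W₂ Z' b k) :
    stabW F.iso.subtype W₀ ⊓ stabW F.iso.subtype Z₀ ≤ stabW F.iso.subtype (W₀ ⊔ Z₀) := by
  rintro g ⟨h1, h2⟩
  change (W₀ ⊔ Z₀).map (F.iso.subtype g : V →ₗ[K] V) = W₀ ⊔ Z₀
  have h1' : W₀.map (F.iso.subtype g : V →ₗ[K] V) = W₀ := h1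
  have h2' : Z₀.map (F.iso.subtype g : V →ₗ[K] V) = Z₀ := h2
  rw [Submodule.map_sup, h1', h2']

/-- the stabiliser of a subspace in the general linear group -/
def stL {L : Type*} [AddCommGroup L] [Module K L] (A : Submodule K L) : Subgroup (L ≃ₗ[K] L) where
  carrier := {g | A.map (g : L →ₗ[K] L) = A}
  one_mem' := Submodule.map_id _
  mul_mem' := by
    intro g h hg hh
    change A.map ((g * h : L ≃ₗ[K] L) : L →ₗ[K] L) = A
    have e : ((g * h : L ≃ₗ[K] L) : L →ₗ[K] L) = (g : L →ₗ[K] L).comp (h : L →ₗ[K] L) := rfl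
    have hg' : A.map (g : L →ₗ[K] L) = A := hg
    have hh' : A.map (h : L →ₗ[K] L) = A := hh
    rw [e, Submodule.map_comp, hh', hg']
  inv_mem' := by
    intro g hg
    change A.map ((g⁻¹ : L ≃ₗ[K] L) : L →ₗ[K] L) = A
    have hg' : A.map (g : L →ₗ[K] L) = A := hg
    conv_lhs => rw [← hg', ← Submodule.map_comp]
    have e : ((g⁻¹ : L ≃ₗ[K] L) : L →ₗ[K] L).comp (g : L →ₗ[K] L) = LinearMap.id := by
      ext x
      exact g.symm_apply_apply x
    rw [e, Submodule.map_id]

/-- a duality exchanging the annihilator of `A` and `B` -/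
theorem exists_theta {L : Type*} [AddCommGroup L] [Module K L] [FiniteDimensional K L] {A B : Submodule K L}
    (hAB : IsCompl A B) : ∃ θ : L ≃ₗ[K] (L →ₗ[K] K), ∀ x, x ∈ B ↔ ∀ a ∈ A, θ x a = 0 := by
  classical
  obtain ⟨α⟩ : Nonempty (A ≃ₗ[K] (A →ₗ[K] K)) :=
    FiniteDimensional.nonempty_linearEquiv_of_finrank_eq (by rw [finrank_linearMap, finrank_self, mul_one])
  obtain ⟨β⟩ : Nonempty (B ≃ₗ[K] (B →ₗ[K] K)) :=
    FiniteDimensional.nonempty_linearEquiv_of_finrank_eq (by rw [finrank_linearMap, finrank_self, mul_one])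
  let pA := A.projectionOnto B hAB
  let pB := B.projectionOnto A hAB.symm
  let θ₀ : L →ₗ[K] (L →ₗ[K] K) := (LinearMap.lcomp K K pA) ∘ₗ (α : A →ₗ[K] (A →ₗ[K] K)) ∘ₗ pA +
    (LinearMap.lcomp K K pB) ∘ₗ (β : B →ₗ[K] (B →ₗ[K] K)) ∘ₗ pB
  have hθ : ∀ x y, θ₀ x y = α (pA x) (pA y) + β (pB x) (pB y) := fun x y => rfl
  have hA : ∀ a : A, pA a = a := fun a => Submodule.projectionOnto_apply_left hAB a
  have hB : ∀ a : B, pB a = a := fun a => Submodule.projectionOnto_apply_left hAB.symm a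
  have hA0 : ∀ a : A, pB a = 0 := fun a => (Submodule.projectionOnto_apply_eq_zero_iff hAB.symm).2 a.2
  have hB0 : ∀ a : B, pA a = 0 := fun a => (Submodule.projectionOnto_apply_eq_zero_iff hAB).2 a.2
  have h1 : ∀ x (a : A), θ₀ x a = α (pA x) a := fun x a => by rw [hθ, hA, hA0, map_zero, add_zero]
  have h2 : ∀ x (a : B), θ₀ x a = β (pB x) a := fun x a => by rw [hθ, hB, hB0, map_zero, zero_add]
  have h3 : ∀ x, (∀ a ∈ A, θ₀ x a = 0) ↔ pA x = 0 := by
    intro x
    constructor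
    · intro h
      have : α (pA x) = 0 := by
        ext a
        rw [← h1]
        exact h a a.2
      exact (LinearEquiv.map_eq_zero_iff α).1 this
    · intro h a ha
      rw [h1 x ⟨a, ha⟩, h, map_zero, LinearMap.zero_apply]
  have h4 : ∀ x, (∀ a ∈ B, θ₀ x a = 0) → pB x = 0 := by
    intro x h
    have : β (pB x) = 0 := by
      ext a
      rw [← h2]
      exact h a a.2
    exact (LinearEquiv.map_eq_zero_iff β).1 this
  have hinj : Function.Injective θ₀ := by
    rw [injective_iff_map_eq_zero]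
    intro x hx
    have h5 := (h3 x).1 fun a _ => by rw [hx, LinearMap.zero_apply]
    have h6 := h4 x fun a _ => by rw [hx, LinearMap.zero_apply]
    have h5' : x ∈ B := (Submodule.projectionOnto_apply_eq_zero_iff hAB).1 h5
    have h6' : x ∈ A := (Submodule.projectionOnto_apply_eq_zero_iff hAB.symm).1 h6
    have : x ∈ A ⊓ B := ⟨h6', h5'⟩
    rw [hAB.inf_eq_bot] at this
    exact (Submodule.mem_bot K).1 this
  refine ⟨LinearMap.linearEquivOfInjective θ₀ hinj (by rw [finrank_linearMap, finrank_self, mul_one]), fun x => ?_⟩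
  rw [← Submodule.projectionOnto_apply_eq_zero_iff hAB]
  exact (h3 x).symm

theorem card_stL_le {L : Type*} [AddCommGroup L] [Module K L] [FiniteDimensional K L] [Finite L] {A B : Submodule K L}
    (hAB : IsCompl A B) : Nat.card (stL A) ≤ Nat.card (stL B) := by
  classical
  have hfin : Finite (L ≃ₗ[K] L) := Finite.of_injective (fun e : L ≃ₗ[K] L => (e : L → L)) DFunLike.coe_injective
  obtain ⟨θ, hθ⟩ := exists_theta hAB
  -- the adjoint
  let ad : (L ≃ₗ[K] L) → (L →ₗ[K] L) := fun g =>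
    (θ.symm : (L →ₗ[K] K) →ₗ[K] L) ∘ₗ (LinearMap.lcomp K K (g : L →ₗ[K] L)) ∘ₗ (θ : L →ₗ[K] (L →ₗ[K] K))
  have had : ∀ g x y, θ (ad g x) y = θ x (g y) := by
    intro g x y
    have : θ (ad g x) = (LinearMap.lcomp K K (g : L →ₗ[K] L)) (θ x) := θ.apply_symm_apply _
    rw [this]
    rfl
  have hinj : ∀ g, Function.Injective (ad g) := by
    intro g
    rw [injective_iff_map_eq_zero]
    intro x hx
    have h1 : θ x = 0 := by
      ext y
      have h2 := had g x (g.symm y)
      rw [g.apply_symm_apply, hx, map_zero, LinearMap.zero_apply] at h2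
      rw [← h2, LinearMap.zero_apply]
    exact (LinearEquiv.map_eq_zero_iff θ).1 h1
  let Φ : stL A → stL B := fun g => ⟨LinearEquiv.ofInjectiveEndo (ad g) (hinj g), by
    change B.map ((LinearEquiv.ofInjectiveEndo (ad g) (hinj g) : L ≃ₗ[K] L) : L →ₗ[K] L) = B
    apply Submodule.eq_of_le_of_finrank_eq
    · rintro _ ⟨x, hx, rfl⟩
      change ad g x ∈ B
      replace hx : x ∈ B := hx
      rw [hθ] at hx ⊢
      intro a ha
      rw [had]
      have hg : A.map ((g : L ≃ₗ[K] L) : L →ₗ[K] L) = A := g.2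
      exact hx _ (by
        have : (g : L ≃ₗ[K] L) a ∈ A.map ((g : L ≃ₗ[K] L) : L →ₗ[K] L) := ⟨a, ha, rfl⟩
        rwa [hg] at this)
    · exact LinearEquiv.finrank_map_eq _ B⟩
  refine Nat.card_le_card_of_injective Φ fun g h hgh => ?_
  apply Subtype.ext
  have h1 : ∀ x y, θ x ((g : L ≃ₗ[K] L) y) = θ x ((h : L ≃ₗ[K] L) y) := by
    intro x y
    rw [← had, ← had]
    have h2 : ad g x = ad h x := congrArg (fun e : stL B => (e : L ≃ₗ[K] L) x) hgh
    rw [h2]
  ext y
  refine sub_eq_zero.1 ((Module.forall_dual_apply_eq_zero_iff K _).1 fun f => ?_)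
  have h2 := h1 (θ.symm f) y
  rw [θ.apply_symm_apply] at h2
  rw [map_sub, sub_eq_zero]
  exact h2

theorem card_stL_eq {L : Type*} [AddCommGroup L] [Module K L] [FiniteDimensional K L] [Finite L] {A B : Submodule K L}
    (hAB : IsCompl A B) : Nat.card (stL A) = Nat.card (stL B) :=
  le_antisymm (card_stL_le hAB) (card_stL_le hAB.symm)

/-- the orders of the stabilisers of two complements of a totally singular subspace -/
theorem card_inf_eq {F : CForm K V} [FiniteDimensional K V] [Finite V] {A B L : Submodule K V} (hL : F.TS L)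
    (hA : A ≤ L) (hB : B ≤ L) (hdis : A ⊓ B = ⊥) (hsup : A ⊔ B = L) :
    Nat.card ↥(stabW F.iso.subtype A ⊓ stabW F.iso.subtype L) =
      Nat.card ↥(stabW F.iso.subtype B ⊓ stabW F.iso.subtype L) := by
  classical
  have hfV : Finite (V ≃ₗ[K] V) := Finite.of_injective (fun e : V ≃ₗ[K] V => (e : V → V)) DFunLike.coe_injective
  have hfL : Finite (L ≃ₗ[K] L) := Finite.of_injective (fun e : L ≃ₗ[K] L => (e : L → L)) DFunLike.coe_injective
  set T := stabW F.iso.subtype L with hT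
  let π : T →* (L ≃ₗ[K] L) := resHom F.iso.subtype L
  have hπ : Function.Surjective π := by
    intro a
    obtain ⟨g, hg⟩ := F.exists_levi' hL a
    have hgT : g ∈ T := map_eq_of_le F.iso.subtype fun w hw => by
      have h1 := hg ⟨w, hw⟩
      change (g : V ≃ₗ[K] V) w ∈ L
      rw [h1]
      exact (a ⟨w, hw⟩).2
    refine ⟨⟨g, hgT⟩, ?_⟩
    ext w
    exact hg w
  have key : ∀ C : Submodule K V, C ≤ L → Nat.card ↥(stabW F.iso.subtype C ⊓ T) * (stL (C.comap L.subtype)).index =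
      Nat.card T := by
    intro C hC
    have h1 : (stabW F.iso.subtype C).subgroupOf T = (stL (C.comap L.subtype)).comap π := by
      ext g
      have hgL : ∀ w : L, ((π g w : L) : V) = ((g : F.iso) : V ≃ₗ[K] V) w := fun w => coe_resHom F.iso.subtype g w
      rw [Subgroup.mem_subgroupOf, Subgroup.mem_comap]
      constructor
      · intro h
        have h' : C.map (F.iso.subtype (g : F.iso) : V →ₗ[K] V) = C := h
        change (C.comap L.subtype).map ((π g : L ≃ₗ[K] L) : L →ₗ[K] L) = C.comap L.subtype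
        apply Submodule.eq_of_le_of_finrank_eq
        · rintro _ ⟨x, hx, rfl⟩
          change ((π g x : L) : V) ∈ C
          rw [hgL, ← h']
          exact ⟨_, hx, rfl⟩
        · exact LinearEquiv.finrank_map_eq _ _
      · intro h
        have h' : (C.comap L.subtype).map ((π g : L ≃ₗ[K] L) : L →ₗ[K] L) = C.comap L.subtype := h
        refine map_eq_of_le F.iso.subtype fun w hw => ?_
        have h2 : π g ⟨w, hC hw⟩ ∈ (C.comap L.subtype).map ((π g : L ≃ₗ[K] L) : L →ₗ[K] L) := ⟨_, hw, rfl⟩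
        rw [h'] at h2
        have h3 : ((π g ⟨w, hC hw⟩ : L) : V) ∈ C := h2
        rwa [hgL] at h3
    have h2 : ((stL (C.comap L.subtype)).comap π).index = (stL (C.comap L.subtype)).index :=
      Subgroup.index_comap_of_surjective _ hπ
    rw [← h2, ← h1, ← Subgroup.card_mul_index ((stabW F.iso.subtype C).subgroupOf T)]
    congr 1
    rw [← Subgroup.inf_subgroupOf_right]
    exact (Nat.card_congr (Subgroup.subgroupOfEquivOfLe inf_le_right).toEquiv).symm
  have hcompl : IsCompl (A.comap L.subtype) (B.comap L.subtype) := by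
    constructor
    · rw [disjoint_iff, Submodule.eq_bot_iff]
      rintro x ⟨h1, h2⟩
      have : (x : V) ∈ A ⊓ B := ⟨h1, h2⟩
      rw [hdis] at this
      exact Subtype.ext ((Submodule.mem_bot K).1 this)
    · rw [codisjoint_iff, Submodule.eq_top_iff']
      intro x
      have hx : (x : V) ∈ A ⊔ B := by rw [hsup]; exact x.2
      obtain ⟨a, ha, c, hc, hac⟩ := Submodule.mem_sup.1 hx
      refine Submodule.mem_sup.2 ⟨⟨a, hA ha⟩, ha, ⟨c, hB hc⟩, hc, Subtype.ext hac⟩
  have hi : (stL (A.comap L.subtype)).index = (stL (B.comap L.subtype)).index := by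
    have h1 := Subgroup.card_mul_index (stL (A.comap L.subtype))
    have h2 := Subgroup.card_mul_index (stL (B.comap L.subtype))
    rw [card_stL_eq hcompl, ← h2] at h1
    exact Nat.eq_of_mul_eq_mul_left Nat.card_pos h1
  have h1 := key A hA
  have h2 := key B hB
  rw [hi, ← h2] at h1
  exact Nat.eq_of_mul_eq_mul_right (Nat.pos_of_ne_zero Subgroup.index_ne_zero_of_finite) h1

theorem Dbl.card_inf (h : Dbl F F' F₂ j j₂ W₀ Z₀ W₂ Z' b k) [FiniteDimensional K V] [Finite V]
    [FiniteDimensional K X'] :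
    Nat.card ↥(stabW F.iso.subtype W₀ ⊓ stabW F.iso.subtype (W₀ ⊔ Z₀)) =
      Nat.card ↥(stabW F.iso.subtype Z₀ ⊓ stabW F.iso.subtype (W₀ ⊔ Z₀)) :=
  card_inf_eq h.ts le_sup_left le_sup_right h.inf_eq_bot rfl

/-! ### frames -/

/-- **the double frame from two orthogonal hyperbolic frames** -/
theorem dbl_of_frame [FiniteDimensional K V] (hσ : F.σ = F'.σ) (hσ₂ : F.σ = F₂.σ)
    {e f : Fin b → V} {e' f' : Fin k → V} {e₂ : Fin b → X₂} {f₂ : Fin b → X₂} {e₃ f₃ : Fin k → X'}
    (hee : ∀ i l, F.B (e i) (e l) = 0) (hff : ∀ i l, F.B (f i) (f l) = 0)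
    (hef : ∀ i l, F.B (e i) (f l) = if i = l then 1 else 0) (hQe : ∀ i, F.Q (e i) = 0)
    (hee' : ∀ i l, F.B (e' i) (e' l) = 0) (hff' : ∀ i l, F.B (f' i) (f' l) = 0)
    (hef' : ∀ i l, F.B (e' i) (f' l) = if i = l then 1 else 0) (hQe' : ∀ i, F.Q (e' i) = 0)
    (hjB : ∀ x y, F.B (j x) (j y) = F'.B x y) (hjQ : ∀ x, F.Q (j x) = F'.Q x)
    (hje : ∀ x i, F.B (j x) (e i) = 0) (hjf : ∀ x i, F.B (j x) (f i) = 0)
    (hdim : finrank K V = finrank K X' + 2 * b)
    (hjB₂ : ∀ x y, F.B (j₂ x) (j₂ y) = F₂.B x y) (hjQ₂ : ∀ x, F.Q (j₂ x) = F₂.Q x)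
    (hje₂ : ∀ x i, F.B (j₂ x) (e' i) = 0) (hjf₂ : ∀ x i, F.B (j₂ x) (f' i) = 0)
    (hdim₂ : finrank K V = finrank K X₂ + 2 * k)
    (h1 : ∀ i, j₂ (e₂ i) = e i) (h2 : ∀ i, j₂ (f₂ i) = f i) (h3 : ∀ i, j (e₃ i) = e' i) (h4 : ∀ i, j (f₃ i) = f' i)
    (hle : ∀ U : Submodule K V, F.TS U → finrank K U ≤ b + k)
    (hle₂ : ∀ U : Submodule K X₂, F₂.TS U → finrank K U ≤ b)
    (hle' : ∀ U : Submodule K X', F'.TS U → finrank K U ≤ k) :
    Dbl F F' F₂ j j₂ (Submodule.span K (Set.range e)) (Submodule.span K (Set.range e'))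
      (Submodule.span K (Set.range e₂)) (Submodule.span K (Set.range e₃)) b k := by
  obtain ⟨a1, a2⟩ := cmp_of_frame (F := F) (F' := F') (j := j) hσ hee hff hef hQe hjB hjQ hje hjf hdim
  obtain ⟨b1, b2⟩ := cmp_of_frame (F := F) (F' := F₂) (j := j₂) hσ₂ hee' hff' hef' hQe' hjB₂ hjQ₂ hje₂ hjf₂ hdim₂
  refine ⟨a2, a1, b2, b1, ?_, ?_, ?_, ?_, hle, hle₂, hle'⟩
  · rw [Submodule.map_span, ← Set.range_comp]
    congr 2
    funext i
    exact h1 i
  · rw [Submodule.map_span, ← Set.range_comp]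
    congr 2
    funext i
    exact h3 i
  · refine F₂.frame_mem_Om (f := f₂) (fun i l => ?_) (fun i l => ?_) fun i => ?_
    · rw [← hjB₂, h1, h1]; exact hee i l
    · rw [← hjB₂, h1, h2]; exact hef i l
    · rw [← hjQ₂, h1]; exact hQe i
  · refine F'.frame_mem_Om (f := f₃) (fun i l => ?_) (fun i l => ?_) fun i => ?_
    · rw [← hjB, h3, h3]; exact hee' i l
    · rw [← hjB, h3, h4]; exact hef' i l
    · rw [← hjQ, h3]; exact hQe' i

end

section models

variable (K : Type u) [Field K]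

/-- the embedding on the first coordinates -/
def icast (b k : ℕ) : (Fin b ⊕ Fin b → K) →ₗ[K] (Fin (b + k) ⊕ Fin (b + k) → K) where
  toFun x := Sum.elim (fun i => Fin.addCases (fun i' => x (.inl i')) (fun _ => (0 : K)) i)
    (fun i => Fin.addCases (fun i' => x (.inr i')) (fun _ => (0 : K)) i)
  map_add' x y := by
    ext s
    rcases s with i | i <;> refine Fin.addCases (fun i => ?_) (fun i => ?_) i <;> simp
  map_smul' c x := by
    ext s
    rcases s with i | i <;> refine Fin.addCases (fun i => ?_) (fun i => ?_) i <;> simp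

/-- the embedding on the first coordinates, odd dimension -/
def iodd (b k : ℕ) : (Unit ⊕ (Fin b ⊕ Fin b) → K) →ₗ[K] (Unit ⊕ (Fin (b + k) ⊕ Fin (b + k)) → K) where
  toFun x := Sum.elim (fun i => x (.inl i)) (icast K b k (fun i => x (.inr i)))
  map_add' x y := by
    ext s
    rcases s with s | s
    · rfl
    · exact congrFun (map_add (icast K b k) (fun i => x (.inr i)) (fun i => y (.inr i))) s
  map_smul' c x := by
    ext s
    rcases s with s | s
    · rfl
    · exact congrFun (map_smul (icast K b k) c (fun i => x (.inr i))) s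

/-- the embedding on the first coordinates, minus type -/
def iminus (b k : ℕ) : ((Fin b ⊕ Fin b) ⊕ Fin 2 → K) →ₗ[K] ((Fin (b + k) ⊕ Fin (b + k)) ⊕ Fin 2 → K) where
  toFun x := Sum.elim (icast K b k (fun i => x (.inl i))) (fun i => x (.inr i))
  map_add' x y := by
    ext s
    rcases s with s | s
    · exact congrFun (map_add (icast K b k) (fun i => x (.inl i)) (fun i => y (.inl i))) s
    · rfl
  map_smul' c x := by
    ext s
    rcases s with s | s
    · exact congrFun (map_smul (icast K b k) c (fun i => x (.inl i))) s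
    · rfl

variable {K}

@[simp] theorem icast_inl_castAdd {b k : ℕ} (x : Fin b ⊕ Fin b → K) (i : Fin b) :
    icast K b k x (.inl (Fin.castAdd k i)) = x (.inl i) := by simp [icast]

@[simp] theorem icast_inl_natAdd {b k : ℕ} (x : Fin b ⊕ Fin b → K) (i : Fin k) :
    icast K b k x (.inl (Fin.natAdd b i)) = 0 := by simp [icast]

@[simp] theorem icast_inr_castAdd {b k : ℕ} (x : Fin b ⊕ Fin b → K) (i : Fin b) :
    icast K b k x (.inr (Fin.castAdd k i)) = x (.inr i) := by simp [icast]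

@[simp] theorem icast_inr_natAdd {b k : ℕ} (x : Fin b ⊕ Fin b → K) (i : Fin k) :
    icast K b k x (.inr (Fin.natAdd b i)) = 0 := by simp [icast]

@[simp] theorem iodd_inl {b k : ℕ} (x : Unit ⊕ (Fin b ⊕ Fin b) → K) (i : Unit) :
    iodd K b k x (.inl i) = x (.inl i) := rfl

@[simp] theorem iodd_inr {b k : ℕ} (x : Unit ⊕ (Fin b ⊕ Fin b) → K) (i) :
    iodd K b k x (.inr i) = icast K b k (fun i => x (.inr i)) i := rfl

@[simp] theorem iminus_inr {b k : ℕ} (x : (Fin b ⊕ Fin b) ⊕ Fin 2 → K) (i : Fin 2) :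
    iminus K b k x (.inr i) = x (.inr i) := rfl

@[simp] theorem iminus_inl {b k : ℕ} (x : (Fin b ⊕ Fin b) ⊕ Fin 2 → K) (i) :
    iminus K b k x (.inl i) = icast K b k (fun i => x (.inl i)) i := rfl

open CForm

variable (K)

theorem spF_le (m : ℕ) (U : Submodule K (Fin m ⊕ Fin m → K)) (hU : (spF K m).TS U) : finrank K U ≤ m := by
  have h := two_finrank_le hU
  simp only [Module.finrank_fintype_fun_eq_card, Fintype.card_sum, Fintype.card_fin] at h
  omega

theorem plusF_le (m : ℕ) (U : Submodule K (Fin m ⊕ Fin m → K)) (hU : (plusF K m).TS U) : finrank K U ≤ m := by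
  have h := two_finrank_le hU
  simp only [Module.finrank_fintype_fun_eq_card, Fintype.card_sum, Fintype.card_fin] at h
  omega

theorem oddF_le (h2 : (2 : K) ≠ 0) (m : ℕ) (U : Submodule K (Unit ⊕ (Fin m ⊕ Fin m) → K))
    (hU : (oddF K m h2).TS U) : finrank K U ≤ m := by
  have h := two_finrank_le hU
  simp only [Module.finrank_fintype_fun_eq_card, Fintype.card_sum, Fintype.card_fin, Fintype.card_unit] at h
  omega

theorem icast_single_inl (b k : ℕ) (i : Fin b) :
    icast K b k (Pi.single (.inl i) 1) = Pi.single (.inl (Fin.castAdd k i)) 1 := by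
  classical
  ext s
  rcases s with s | s <;> refine Fin.addCases (fun s => ?_) (fun s => ?_) s <;>
    simp [Pi.single_apply, Fin.ext_iff] <;> omega

theorem icast_single_inr (b k : ℕ) (i : Fin b) :
    icast K b k (Pi.single (.inr i) 1) = Pi.single (.inr (Fin.castAdd k i)) 1 := by
  classical
  ext s
  rcases s with s | s <;> refine Fin.addCases (fun s => ?_) (fun s => ?_) s <;>
    simp [Pi.single_apply, Fin.ext_iff] <;> omega

theorem jmap_single_inl (b k : ℕ) (i : Fin k) :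
    jmap K b k (Pi.single (.inl i) 1) = Pi.single (.inl (Fin.natAdd b i)) 1 := by
  classical
  ext s
  rcases s with s | s <;> refine Fin.addCases (fun s => ?_) (fun s => ?_) s <;>
    simp [Pi.single_apply, Fin.ext_iff] <;> omega

theorem jmap_single_inr (b k : ℕ) (i : Fin k) :
    jmap K b k (Pi.single (.inr i) 1) = Pi.single (.inr (Fin.natAdd b i)) 1 := by
  classical
  ext s
  rcases s with s | s <;> refine Fin.addCases (fun s => ?_) (fun s => ?_) s <;>
    simp [Pi.single_apply, Fin.ext_iff] <;> omega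

theorem iodd_single (b k : ℕ) (i : Fin b ⊕ Fin b) (i' : Fin (b + k) ⊕ Fin (b + k))
    (h : icast K b k (Pi.single i 1) = Pi.single i' 1) :
    iodd K b k (Pi.single (.inr i) 1) = Pi.single (.inr i') 1 := by
  classical
  ext s
  rcases s with s | s
  · simp
  · rw [iodd_inr]
    have e : (fun t => (Pi.single (.inr i) 1 : Unit ⊕ (Fin b ⊕ Fin b) → K) (.inr t)) = Pi.single i 1 := by
      funext t
      simp [Pi.single_apply]
    rw [e, h]
    simp [Pi.single_apply]

theorem jodd_single (b k : ℕ) (i : Fin k ⊕ Fin k) (i' : Fin (b + k) ⊕ Fin (b + k))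
    (h : jmap K b k (Pi.single i 1) = Pi.single i' 1) :
    jodd K b k (Pi.single (.inr i) 1) = Pi.single (.inr i') 1 := by
  classical
  ext s
  rcases s with s | s
  · simp
  · rw [jodd_inr]
    have e : (fun t => (Pi.single (.inr i) 1 : Unit ⊕ (Fin k ⊕ Fin k) → K) (.inr t)) = Pi.single i 1 := by
      funext t
      simp [Pi.single_apply]
    rw [e, h]
    simp [Pi.single_apply]

theorem iminus_single (b k : ℕ) (i : Fin b ⊕ Fin b) (i' : Fin (b + k) ⊕ Fin (b + k))
    (h : icast K b k (Pi.single i 1) = Pi.single i' 1) :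
    iminus K b k (Pi.single (.inl i) 1) = Pi.single (.inl i') 1 := by
  classical
  ext s
  rcases s with s | s
  · rw [iminus_inl]
    have e : (fun t => (Pi.single (.inl i) 1 : (Fin b ⊕ Fin b) ⊕ Fin 2 → K) (.inl t)) = Pi.single i 1 := by
      funext t
      simp [Pi.single_apply]
    rw [e, h]
    simp [Pi.single_apply]
  · simp

theorem jminus_single (b k : ℕ) (i : Fin k ⊕ Fin k) (i' : Fin (b + k) ⊕ Fin (b + k))
    (h : jmap K b k (Pi.single i 1) = Pi.single i' 1) :
    jminus K b k (Pi.single (.inl i) 1) = Pi.single (.inl i') 1 := by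
  classical
  ext s
  rcases s with s | s
  · rw [jminus_inl]
    have e : (fun t => (Pi.single (.inl i) 1 : (Fin k ⊕ Fin k) ⊕ Fin 2 → K) (.inl t)) = Pi.single i 1 := by
      funext t
      simp [Pi.single_apply]
    rw [e, h]
    simp [Pi.single_apply]
  · simp

theorem quadFormPlus_icast {b k : ℕ} (x : Fin b ⊕ Fin b → K) :
    quadFormPlus (b + k) K (icast K b k x) = quadFormPlus b K x := by
  simp [quadFormPlus, Fin.sum_univ_add]

theorem hypB_icast {b k : ℕ} (x y : Fin b ⊕ Fin b → K) :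
    hypB K (b + k) (icast K b k x) (icast K b k y) = hypB K b x y := by
  simp [hypB, Fin.sum_univ_add]

theorem spF_dbl (b k : ℕ) : ∃ W₀ Z₀ W₂ Z', Dbl (spF K (b + k)) (spF K k) (spF K b) (jmap K b k) (icast K b k)
    W₀ Z₀ W₂ Z' b k := by
  classical
  refine ⟨_, _, _, _, dbl_of_frame (F := spF K (b + k)) (F' := spF K k) (F₂ := spF K b) (j := jmap K b k)
    (j₂ := icast K b k) rfl rfl
    (e := fun i => Pi.single (.inl (Fin.castAdd k i)) 1) (f := fun i => Pi.single (.inr (Fin.castAdd k i)) 1)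
    (e' := fun i => Pi.single (.inl (Fin.natAdd b i)) 1) (f' := fun i => Pi.single (.inr (Fin.natAdd b i)) 1)
    (e₂ := fun i => Pi.single (.inl i) 1) (f₂ := fun i => Pi.single (.inr i) 1)
    (e₃ := fun i => Pi.single (.inl i) 1) (f₃ := fun i => Pi.single (.inr i) 1)
    ?_ ?_ ?_ (fun _ => rfl) ?_ ?_ ?_ (fun _ => rfl) ?_ (fun _ => rfl) ?_ ?_ ?_ ?_ (fun _ => rfl) ?_ ?_ ?_
    (icast_single_inl K b k) (icast_single_inr K b k) (jmap_single_inl K b k) (jmap_single_inr K b k)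
    (spF_le K _) (spF_le K _) (spF_le K _)⟩
  · intro i l; simp [spF_B]
  · intro i l; simp [spF_B]
  · intro i l; simp [spF_B, Pi.single_apply, eq_comm]
  · intro i l; simp [spF_B]
  · intro i l; simp [spF_B]
  · intro i l; simp [spF_B, Pi.single_apply, eq_comm]
  · intro x y; simp [spF_B, Fin.sum_univ_add]
  · intro x i; simp [spF_B, Pi.single_apply]
  · intro x i; simp [spF_B, Pi.single_apply]
  · simp; ring
  · intro x y; simp [spF_B, Fin.sum_univ_add]
  · intro x i; simp [spF_B, Pi.single_apply]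
  · intro x i; simp [spF_B, Pi.single_apply]
  · simp; ring

theorem plusF_dbl (b k : ℕ) : ∃ W₀ Z₀ W₂ Z', Dbl (plusF K (b + k)) (plusF K k) (plusF K b) (jmap K b k) (icast K b k)
    W₀ Z₀ W₂ Z' b k := by
  classical
  refine ⟨_, _, _, _, dbl_of_frame (F := plusF K (b + k)) (F' := plusF K k) (F₂ := plusF K b) (j := jmap K b k)
    (j₂ := icast K b k) rfl rfl
    (e := fun i => Pi.single (.inl (Fin.castAdd k i)) 1) (f := fun i => Pi.single (.inr (Fin.castAdd k i)) 1)
    (e' := fun i => Pi.single (.inl (Fin.natAdd b i)) 1) (f' := fun i => Pi.single (.inr (Fin.natAdd b i)) 1)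
    (e₂ := fun i => Pi.single (.inl i) 1) (f₂ := fun i => Pi.single (.inr i) 1)
    (e₃ := fun i => Pi.single (.inl i) 1) (f₃ := fun i => Pi.single (.inr i) 1)
    ?_ ?_ ?_ ?_ ?_ ?_ ?_ ?_ hypB_jmap quadFormPlus_jmap ?_ ?_ ?_ (hypB_icast K) (quadFormPlus_icast K) ?_ ?_ ?_
    (icast_single_inl K b k) (icast_single_inr K b k) (jmap_single_inl K b k) (jmap_single_inr K b k)
    (plusF_le K _) (plusF_le K _) (plusF_le K _)⟩
  · intro i l; simp [plusF_B, hypB]
  · intro i l; simp [plusF_B, hypB]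
  · intro i l; simp [plusF_B, hypB, Pi.single_apply, eq_comm]
  · intro i; simp [plusF_Q, quadFormPlus]
  · intro i l; simp [plusF_B, hypB]
  · intro i l; simp [plusF_B, hypB]
  · intro i l; simp [plusF_B, hypB, Pi.single_apply, eq_comm]
  · intro i; simp [plusF_Q, quadFormPlus]
  · intro x i; simp [plusF_B, hypB, Pi.single_apply]
  · intro x i; simp [plusF_B, hypB, Pi.single_apply]
  · simp; ring
  · intro x i; simp [plusF_B, hypB, Pi.single_apply]
  · intro x i; simp [plusF_B, hypB, Pi.single_apply]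
  · simp; ring

theorem oddF_dbl (h2 : (2 : K) ≠ 0) (b k : ℕ) : ∃ W₀ Z₀ W₂ Z', Dbl (oddF K (b + k) h2) (oddF K k h2) (oddF K b h2)
    (jodd K b k) (iodd K b k) W₀ Z₀ W₂ Z' b k := by
  classical
  refine ⟨_, _, _, _, dbl_of_frame (F := oddF K (b + k) h2) (F' := oddF K k h2) (F₂ := oddF K b h2) (j := jodd K b k)
    (j₂ := iodd K b k) rfl rfl
    (e := fun i => Pi.single (.inr (.inl (Fin.castAdd k i))) 1)
    (f := fun i => Pi.single (.inr (.inr (Fin.castAdd k i))) 1)
    (e' := fun i => Pi.single (.inr (.inl (Fin.natAdd b i))) 1)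
    (f' := fun i => Pi.single (.inr (.inr (Fin.natAdd b i))) 1)
    (e₂ := fun i => Pi.single (.inr (.inl i)) 1) (f₂ := fun i => Pi.single (.inr (.inr i)) 1)
    (e₃ := fun i => Pi.single (.inr (.inl i)) 1) (f₃ := fun i => Pi.single (.inr (.inr i)) 1)
    ?_ ?_ ?_ ?_ ?_ ?_ ?_ ?_ ?_ ?_ ?_ ?_ ?_ ?_ ?_ ?_ ?_ ?_
    (fun i => iodd_single K b k _ _ (icast_single_inl K b k i)) (fun i => iodd_single K b k _ _ (icast_single_inr K b k i))
    (fun i => jodd_single K b k _ _ (jmap_single_inl K b k i)) (fun i => jodd_single K b k _ _ (jmap_single_inr K b k i))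
    (oddF_le K h2 _) (oddF_le K h2 _) (oddF_le K h2 _)⟩
  · intro i l; simp [oddF_B, oddB, hypB]
  · intro i l; simp [oddF_B, oddB, hypB]
  · intro i l; simp [oddF_B, oddB, hypB, Pi.single_apply, eq_comm]
  · intro i; simp [oddF_Q, quadFormOdd]
  · intro i l; simp [oddF_B, oddB, hypB]
  · intro i l; simp [oddF_B, oddB, hypB]
  · intro i l; simp [oddF_B, oddB, hypB, Pi.single_apply, eq_comm]
  · intro i; simp [oddF_Q, quadFormOdd]
  · intro x y; simp [oddF_B, oddB, hypB_jmap]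
  · intro x
    have h := quadFormPlus_jmap (K := K) (k := b) (fun i => x (.inr i))
    change x (.inl ()) ^ 2 + quadFormPlus (b + k) K (jmap K b k (fun i => x (.inr i))) = _
    rw [h]
    rfl
  · intro x i; simp [oddF_B, oddB, hypB, Pi.single_apply]
  · intro x i; simp [oddF_B, oddB, hypB, Pi.single_apply]
  · simp; ring
  · intro x y; simp [oddF_B, oddB, hypB_icast]
  · intro x
    have h := quadFormPlus_icast K (k := k) (fun i => x (.inr i))
    change x (.inl ()) ^ 2 + quadFormPlus (b + k) K (icast K b k (fun i => x (.inr i))) = _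
    rw [h]
    rfl
  · intro x i; simp [oddF_B, oddB, hypB, Pi.single_apply]
  · intro x i; simp [oddF_B, oddB, hypB, Pi.single_apply]
  · simp; ring

theorem minusF_dbl [Finite K] {a c : K}
    (hac : ∀ z₁ z₂ : K, z₁ ^ 2 + a * z₁ * z₂ + c * z₂ ^ 2 = 0 → z₁ = 0 ∧ z₂ = 0) (b k : ℕ) :
    ∃ W₀ Z₀ W₂ Z', Dbl (minusF K (b + k) a c hac) (minusF K k a c hac) (minusF K b a c hac)
    (jminus K b k) (iminus K b k) W₀ Z₀ W₂ Z' b k := by
  classical
  refine ⟨_, _, _, _, dbl_of_frame (F := minusF K (b + k) a c hac) (F' := minusF K k a c hac)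
    (F₂ := minusF K b a c hac) (j := jminus K b k) (j₂ := iminus K b k) rfl rfl
    (e := fun i => Pi.single (.inl (.inl (Fin.castAdd k i))) 1)
    (f := fun i => Pi.single (.inl (.inr (Fin.castAdd k i))) 1)
    (e' := fun i => Pi.single (.inl (.inl (Fin.natAdd b i))) 1)
    (f' := fun i => Pi.single (.inl (.inr (Fin.natAdd b i))) 1)
    (e₂ := fun i => Pi.single (.inl (.inl i)) 1) (f₂ := fun i => Pi.single (.inl (.inr i)) 1)
    (e₃ := fun i => Pi.single (.inl (.inl i)) 1) (f₃ := fun i => Pi.single (.inl (.inr i)) 1)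
    ?_ ?_ ?_ ?_ ?_ ?_ ?_ ?_ ?_ ?_ ?_ ?_ ?_ ?_ ?_ ?_ ?_ ?_
    (fun i => iminus_single K b k _ _ (icast_single_inl K b k i))
    (fun i => iminus_single K b k _ _ (icast_single_inr K b k i))
    (fun i => jminus_single K b k _ _ (jmap_single_inl K b k i))
    (fun i => jminus_single K b k _ _ (jmap_single_inr K b k i))
    (minus_witt K a c hac _) (minus_witt K a c hac _) (minus_witt K a c hac _)⟩
  · intro i l; simp [minusF_B, minusB, hypB]
  · intro i l; simp [minusF_B, minusB, hypB]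
  · intro i l; simp [minusF_B, minusB, hypB, Pi.single_apply, eq_comm]
  · intro i; simp [minusF_Q, quadFormMinus]
  · intro i l; simp [minusF_B, minusB, hypB]
  · intro i l; simp [minusF_B, minusB, hypB]
  · intro i l; simp [minusF_B, minusB, hypB, Pi.single_apply, eq_comm]
  · intro i; simp [minusF_Q, quadFormMinus]
  · intro x y; simp [minusF_B, minusB, hypB_jmap]
  · intro x
    have h := quadFormPlus_jmap (K := K) (k := b) (fun i => x (.inl i))
    change quadFormPlus (b + k) K (jmap K b k (fun i => x (.inl i))) + _ = _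
    rw [h]
    rfl
  · intro x i; simp [minusF_B, minusB, hypB, Pi.single_apply]
  · intro x i; simp [minusF_B, minusB, hypB, Pi.single_apply]
  · simp; ring
  · intro x y; simp [minusF_B, minusB, hypB_icast]
  · intro x
    have h := quadFormPlus_icast K (k := k) (fun i => x (.inl i))
    change quadFormPlus (b + k) K (icast K b k (fun i => x (.inl i))) + _ = _
    rw [h]
    rfl
  · intro x i; simp [minusF_B, minusB, hypB, Pi.single_apply]
  · intro x i; simp [minusF_B, minusB, hypB, Pi.single_apply]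
  · simp; ring

end models

end Cfsg.Agent.H18.HT
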